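/-
Control of central elements by a chain of local arguments: an element `x` of `Z(S)` fixed by `Aut_F(J(S))` is fixed by
`F` as soon as, in the models at the fully normalized centric subgroups, elements central in a Sylow subgroup and
fixed by the normalizer of `J` are weakly closed.
-/
import Mathlib
import Cfsg.Prelude.Def_FusionReduction
import Cfsg.Agent.Lib.Fusion.FNInduction
import Cfsg.Agent.Lib.Fusion.GT.Local
import Cfsg.Agent.Lib.Fusion.KNormalizer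
import Cfsg.Agent.Lib.Fusion.LocalSystems
import Cfsg.Agent.Lib.Fusion.ModelF
import Cfsg.Agent.Lib.Fusion.ModelLocal
import Cfsg.Agent.Lib.Thompson.Transport
import Cfsg.Agent.Lib.PGroup.WeakClosureMain

set_option autoImplicit false
set_option linter.style.haveILetI false

namespace Cfsg.Agent.Lib.Fusion.GT.WeakChain

open Cfsg Cfsg.FusionSystem Cfsg.Agent.Lib.Fusion.Basic Cfsg.Agent.Lib.Fusion.Saturated
  Cfsg.Agent.Lib.Fusion.Saturated2 Cfsg.Agent.Lib.Fusion.ModelLocal Cfsg.Agent.Lib.Fusion.LocalSystems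
  Cfsg.Agent.Lib.Fusion.GT.Local Cfsg.Agent.Lib.Fusion.Model Cfsg.Agent.Lib.PGroup.ZJ
  Cfsg.Agent.Lib.Thompson.Transport Cfsg.Agent.Lib.PGroup.WeakClosure

universe u

variable {Ω : Type u} [Group Ω] {S : Subgroup Ω} {F : FusionSystem S} {p : ℕ} [Fact p.Prime]

/-- `Y` has an automorphism in the system moving `x`. -/
def Moved (F : FusionSystem S) (x : Ω) (Y : Subgroup Ω) : Prop :=
  ∃ β : Y →* Ω, β ∈ F.Hom Y ∧ β.range = Y ∧ ∃ h : x ∈ Y, β ⟨x, h⟩ ≠ x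

/-- If no large subgroup has an automorphism moving `x` then no large map moves `x`. -/
theorem fix_of_not_moved [Finite S] (hS : IsPGroup p S) (hF : F.IsSaturated p) {x : Ω} (m : ℕ)
    (h : ∀ X : Subgroup Ω, m ≤ Nat.card X → ¬ Moved F x X) :
    ∀ {P : Subgroup Ω} {φ : P →* Ω}, φ ∈ F.Hom P → m ≤ Nat.card P →
      (∀ h : x ∈ P, φ ⟨x, h⟩ = x) ∧ (∀ y : P, φ y = x → (y : Ω) = x) := by
  intro P φ hφ
  refine Cfsg.Agent.Lib.Fusion.FNInduction.fn_induction hS hF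
    (fun P φ => m ≤ Nat.card P → (∀ h : x ∈ P, φ ⟨x, h⟩ = x) ∧ (∀ y : P, φ y = x → (y : Ω) = x))
    ?_ ?_ ?_ ?_ hφ
  · intro P R φ hφ hPi hle hm
    have : Finite P := finite_of_le (source_le hφ)
    obtain ⟨h1, h2⟩ := hPi (hm.trans (Subgroup.card_le_of_le hle))
    exact ⟨fun hx => h1 (hle hx), fun y hy => h2 (Subgroup.inclusion hle y) hy⟩
  · intro P Q φ ψ hφ hψ hPi₁ hPi₂ h hm
    have : Finite Q := finite_of_le (source_le hψ)
    have hc : Nat.card P ≤ Nat.card Q :=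
      Nat.card_le_card_of_injective (φ.codRestrict Q h) (fun a b hab => F.injective_of_mem hφ
        (congrArg Subtype.val hab))
    obtain ⟨h1, h2⟩ := hPi₁ hm
    obtain ⟨h3, h4⟩ := hPi₂ (hm.trans hc)
    refine ⟨fun hx => ?_, fun y hy => h2 y (h4 ⟨φ y, h y⟩ hy)⟩
    have e1 := h1 hx
    have hxQ : x ∈ Q := e1 ▸ h ⟨x, hx⟩
    have e2 : (⟨φ ⟨x, hx⟩, h _⟩ : Q) = ⟨x, hxQ⟩ := Subtype.ext e1
    show ψ ⟨φ ⟨x, hx⟩, h _⟩ = x
    rw [e2]
    exact h3 hxQ
  · intro P Q φ ψ hφ hψ hr hi hPi hm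
    have hc : Nat.card P = Nat.card Q := card_eq_of_range hφ hr
    obtain ⟨h1, h2⟩ := hPi (hc ▸ hm)
    refine ⟨fun hx => ?_, fun y hy => ?_⟩
    · have hm' : x ∈ φ.range := hr ▸ hx
      obtain ⟨y, hy⟩ := hm'
      have e1 := h2 y hy
      have e2 : (⟨x, hx⟩ : Q) = ⟨φ y, hr ▸ ⟨y, rfl⟩⟩ := Subtype.ext hy.symm
      rw [e2, hi y]
      exact e1
    · have hm' : (y : Ω) ∈ φ.range := hr ▸ y.2
      obtain ⟨y₀, hy₀⟩ := hm'
      have e2 : y = ⟨φ y₀, hr ▸ ⟨y₀, rfl⟩⟩ := Subtype.ext hy₀.symm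
      rw [e2, hi y₀] at hy
      have hxP : x ∈ P := hy ▸ y₀.2
      have e3 : y₀ = ⟨x, hxP⟩ := Subtype.ext hy
      rw [← hy₀, e3]
      exact h1 hxP
  · intro P φ hFN hφ hr _ hm
    have hnm := h P hm
    have hfix : ∀ hx : x ∈ P, φ ⟨x, hx⟩ = x := by
      intro hx
      by_contra hne
      exact hnm ⟨φ, hφ, hr, hx, hne⟩
    refine ⟨hfix, fun y hy => ?_⟩
    have hm' : x ∈ P := hr ▸ ⟨y, hy⟩
    have e := hfix hm'
    have e3 : y = ⟨x, hm'⟩ := F.injective_of_mem hφ (hy.trans e.symm)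
    rw [e3]

omit [Fact p.Prime] in
/-- A fully centralized subgroup containing its centralizer in `S` is centric, in a saturated system. -/
theorem isCentric_of_fullyCentralized [Finite S] [Fact p.Prime] (hS : IsPGroup p S) (hF : F.IsSaturated p) {Y : Subgroup Ω}
    (hY : F.IsFullyCentralized Y) (hC : centralizerIn S Y ≤ Y) : F.IsCentric Y := by
  refine ⟨hY.1, fun Q hQ => ?_⟩
  obtain ⟨φ, hφ, hr⟩ := hQ
  have hYS : Y ≤ S := hY.1
  obtain ⟨θ, hθ, hθr, hθ1, hθ2⟩ := exists_inv hφ hr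
  have hrec := fullyCentralized_receptive hS hF hY
  obtain ⟨ψ, hψ, hψe⟩ := hrec.2 _ θ hθ hθr
  have hQS : Q ≤ S := source_le hθ
  have hQE : Q ≤ extender S Q θ := le_extender hQS (map_mem_S hθ)
  have hmap : (Q.subgroupOf (extender S Q θ)).map ψ = Y :=
    map_subgroupOf_of_agree hQE hθr (fun z hz hE => hψe z hz hE)
  intro c hc
  have hcE : c ∈ extender S Q θ := centralizerIn_le_extender hc
  have h1 := map_mem_centralizer hmap ⟨c, hcE⟩ hc.2
  have h2 : ψ ⟨c, hcE⟩ ∈ Y := hC ⟨map_mem_S hψ _, h1⟩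
  rw [← hθr] at h2
  obtain ⟨q, hq⟩ := h2
  have h3 := hψe q q.2 (hQE q.2)
  have h4 : (⟨(q : Ω), hQE q.2⟩ : ↥(extender S Q θ)) = ⟨c, hcE⟩ :=
    F.injective_of_mem hψ (h3.trans hq)
  have h5 : (q : Ω) = c := congrArg Subtype.val h4
  exact h5 ▸ q.2

omit [Fact p.Prime] in
/-- Transport of an automorphism moving `x` along a map fixing `x`. -/
theorem Moved.of_map {x : Ω} {R Y₀ Y : Subgroup Ω} {ρ : R →* Ω} (hρ : ρ ∈ F.Hom R) (hY₀R : Y₀ ≤ R)
    (hmap : (Y₀.subgroupOf R).map ρ = Y) (hxR : x ∈ R) (hfix : ρ ⟨x, hxR⟩ = x) (hM : Moved F x Y₀) : Moved F x Y := by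
  obtain ⟨β, hβ, hβr, hx₀, hne⟩ := hM
  let ρ₀ : Y₀ →* Ω := ρ.comp (Subgroup.inclusion hY₀R)
  have hρ₀ : ρ₀ ∈ F.Hom Y₀ := res_mem hρ hY₀R
  have hρ₀r : ρ₀.range = Y := by
    rw [← hmap]
    ext y
    constructor
    · rintro ⟨z, rfl⟩
      exact ⟨Subgroup.inclusion hY₀R z, by simp [Subgroup.mem_subgroupOf], rfl⟩
    · rintro ⟨z, hz, rfl⟩
      exact ⟨⟨z, hz⟩, rfl⟩
  obtain ⟨θ, hθ, hθr, hθ1, hθ2⟩ := exists_inv hρ₀ hρ₀r
  have hxY : x ∈ Y := by
    rw [← hρ₀r]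
    exact ⟨⟨x, hx₀⟩, hfix⟩
  have hθv : ∀ y : Y, θ y ∈ Y₀ := fun y => hθr.le ⟨y, rfl⟩
  let a : Y →* Ω := β.comp (θ.codRestrict Y₀ hθv)
  have ha : a ∈ F.Hom Y := F.comp_mem hθ hβ hθv
  have hav : ∀ y : Y, a y ∈ Y₀ := fun y => hβr.le ⟨_, rfl⟩
  let b : Y →* Ω := ρ₀.comp (a.codRestrict Y₀ hav)
  have hb : b ∈ F.Hom Y := F.comp_mem ha hρ₀ hav
  have hθx : θ ⟨x, hxY⟩ = x := by
    have h1 := hθ1 ⟨x, hx₀⟩ (by
      show ρ ⟨x, hY₀R hx₀⟩ ∈ Y
      have : ρ ⟨x, hY₀R hx₀⟩ = x := hfix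
      rw [this]; exact hxY)
    have e : (⟨ρ₀ ⟨x, hx₀⟩, (by
      show ρ ⟨x, hY₀R hx₀⟩ ∈ Y
      have : ρ ⟨x, hY₀R hx₀⟩ = x := hfix
      rw [this]; exact hxY)⟩ : Y) = ⟨x, hxY⟩ := Subtype.ext hfix
    rw [e] at h1
    exact h1
  have hbr : b.range = Y := by
    refine le_antisymm ?_ ?_
    · rintro _ ⟨y, rfl⟩
      exact hρ₀r.le ⟨_, rfl⟩
    · intro y hy
      obtain ⟨z, rfl⟩ := hρ₀r.ge hy
      obtain ⟨⟨_, z', rfl⟩, hz'⟩ : ∃ z' : β.range, (z' : Ω) = z := ⟨⟨z, hβr.ge z.2⟩, rfl⟩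
      obtain ⟨⟨_, y', rfl⟩, hy'⟩ : ∃ y' : θ.range, (y' : Ω) = z' := ⟨⟨z', hθr.ge z'.2⟩, rfl⟩
      refine ⟨y', ?_⟩
      show ρ₀ ⟨β (θ.codRestrict Y₀ hθv y'), _⟩ = ρ₀ z
      congr 1
      apply Subtype.ext
      rw [← hz']
      show β (θ.codRestrict Y₀ hθv y') = β z'
      congr 1
      exact Subtype.ext hy'
  refine ⟨b, hb, hbr, hxY, fun he => hne ?_⟩
  have e1 : θ.codRestrict Y₀ hθv ⟨x, hxY⟩ = ⟨x, hx₀⟩ := Subtype.ext hθx
  have e2 : a ⟨x, hxY⟩ = β ⟨x, hx₀⟩ := congrArg β e1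
  have e3 : b ⟨x, hxY⟩ = ρ₀ ⟨β ⟨x, hx₀⟩, hβr.le ⟨_, rfl⟩⟩ := by
    show ρ₀ ⟨a ⟨x, hxY⟩, hav _⟩ = _
    exact congrArg ρ₀ (Subtype.ext e2)
  have e4 : ρ₀ ⟨β ⟨x, hx₀⟩, hβr.le ⟨_, rfl⟩⟩ = ρ₀ ⟨x, hx₀⟩ := by
    rw [← e3, he]
    exact hfix.symm
  have e5 := F.injective_of_mem hρ₀ e4
  exact congrArg Subtype.val e5

omit [Fact p.Prime] in
/-- `J` of the image of an injective homomorphism. -/
theorem map_JJ {T : Subgroup Ω} {G' : Type*} [Group G'] (f : T →* G') (hf : Function.Injective f) :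
    (JJ 0 (⊤ : Subgroup T)).map f = JJ 0 f.range := by
  have h := JJ_map_of_injOn f (k := 0) (R := ⊤) (hf.injOn)
  rwa [← MonoidHom.range_eq_map] at h

omit [Fact p.Prime] in
theorem JJ_eq_map (T : Subgroup Ω) : JJ 0 T = (JJ 0 (⊤ : Subgroup T)).map T.subtype := by
  have h := map_JJ T.subtype T.subtype_injective
  rw [Subgroup.range_subtype] at h
  exact h.symm

omit [Fact p.Prime] in
theorem JJ_le_of (T : Subgroup Ω) : JJ 0 T ≤ T := JJ_le 0 T

omit [Fact p.Prime] in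
theorem mem_JJ_iff {T : Subgroup Ω} (y : T) : (y : Ω) ∈ JJ 0 T ↔ y ∈ JJ 0 (⊤ : Subgroup T) := by
  rw [JJ_eq_map]
  constructor
  · rintro ⟨z, hz, hze⟩
    have : z = y := Subtype.ext hze
    rwa [← this]
  · intro hy
    exact ⟨y, hy, rfl⟩

/-- An element central in `T` lies in `J(T)`. -/
theorem mem_JJ_of_mem_center {T : Subgroup Ω} [Finite T] {x : Ω} (hxT : x ∈ T) (hx : ∀ u ∈ T, x * u = u * x) :
    x ∈ JJ 0 T := by
  refine (mem_JJ_iff ⟨x, hxT⟩).2 (mem_JJ_of_central (G := T) (Subgroup.mem_top _) fun u _ => ?_)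
  exact Subtype.ext (hx u u.2)

omit [Fact p.Prime] in
/-- `J(T)` read through an injective homomorphism. -/
theorem mem_JJ_range_iff {T : Subgroup Ω} {G' : Type*} [Group G'] (f : T →* G') (hf : Function.Injective f) (y : T) :
    f y ∈ JJ 0 f.range ↔ (y : Ω) ∈ JJ 0 T := by
  rw [mem_JJ_iff, ← map_JJ f hf]
  constructor
  · rintro ⟨z, hz, hze⟩
    rwa [← hf hze]
  · intro hy
    exact ⟨y, hy, rfl⟩

/-- A morphism defined on `T` with image `T` preserves `J(T)`. -/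
theorem conj_mem_JJ' {T : Subgroup Ω} {s y : Ω} (hs : ∀ t ∈ T, s * t * s⁻¹ ∈ T) (hs' : ∀ t ∈ T, s⁻¹ * t * s ∈ T) (hy : y ∈ JJ 0 T) :
    s * y * s⁻¹ ∈ JJ 0 T := by
  have hyT : y ∈ T := JJ_le 0 T hy
  let f : T →* Ω := (MulAut.conj s).toMonoidHom.comp T.subtype
  have hf : Function.Injective f := (MulAut.conj s).injective.comp T.subtype_injective
  have hr : f.range = T := by
    ext t
    constructor
    · rintro ⟨u, rfl⟩
      exact hs u u.2
    · intro ht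
      refine ⟨⟨s⁻¹ * t * s, hs' t ht⟩, ?_⟩
      show s * (s⁻¹ * t * s) * s⁻¹ = t
      group
  have h1 := (mem_JJ_range_iff f hf ⟨y, hyT⟩).2 hy
  rw [hr] at h1
  exact h1

set_option maxHeartbeats 2000000 in
/-- **The chain argument.** -/
theorem fix_of_chain [Finite S] (hS : IsPGroup p S) (hF : F.IsSaturated p) {x : Ω} (hxZ : x ∈ centralizerIn S S)
    (hA : ∀ β : ↥(JJ 0 S) →* Ω, β ∈ F.Hom (JJ 0 S) → β.range = JJ 0 S → ∀ h : x ∈ JJ 0 S, β ⟨x, h⟩ = x)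
    (hB : ∀ Y : Subgroup Ω, F.IsFullyNormalized Y → F.IsCentric Y →
      ∀ N : FusionSystem (normalizerIn S Y), F.IsNormalizerSystem Y N →
      ∀ (L : Type u) [Group L] (ι : ↥(normalizerIn S Y) →* L), N.IsModel p L ι → ∀ hx : x ∈ normalizerIn S Y,
      ∀ T : Sylow p L, (T : Subgroup L) = ι.range →
      (∀ g ∈ Subgroup.normalizer ((JJ 0 (T : Subgroup L) : Subgroup L) : Set L), g * ι ⟨x, hx⟩ = ι ⟨x, hx⟩ * g) →
      ∀ g, g * ι ⟨x, hx⟩ * g⁻¹ ∈ (T : Subgroup L) → g * ι ⟨x, hx⟩ * g⁻¹ = ι ⟨x, hx⟩) :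
    ∀ {P : Subgroup Ω} {φ : P →* Ω}, φ ∈ F.Hom P → ∀ h : x ∈ P, φ ⟨x, h⟩ = x := by
  classical
  have hxS : x ∈ S := hxZ.1
  have hxc : ∀ u ∈ S, x * u = u * x := fun u hu => (Subgroup.mem_centralizer_iff.1 hxZ.2 u hu).symm
  have hxN : ∀ {R : Subgroup Ω}, R ≤ S → x ∈ normalizerIn S R := fun hR =>
    ⟨hxS, Subgroup.centralizer_le_normalizer _ (Subgroup.centralizer_le hR hxZ.2)⟩
  have hxJ : x ∈ JJ 0 S := mem_JJ_of_mem_center hxS hxc
  have hJbad : ∀ {Q : Subgroup Ω}, Q = JJ 0 S → ¬ Moved F x Q := by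
    rintro _ rfl ⟨β, hβ, hr, h, hne⟩
    exact hne (hA β hβ hr h)
  -- automorphisms of `S` fix `x`
  have hnS : ¬ Moved F x S := by
    rintro ⟨β, hβ, hr, h, hne⟩
    have hinj := F.injective_of_mem hβ
    have hmap := map_JJ β hinj
    rw [hr] at hmap
    have hle : JJ 0 S ≤ S := JJ_le 0 S
    let β₀ : ↥(JJ 0 S) →* Ω := β.comp (Subgroup.inclusion hle)
    have hβ₀ : β₀ ∈ F.Hom (JJ 0 S) := res_mem hβ hle
    have hr₀ : β₀.range = JJ 0 S := by
      refine Eq.trans ?_ hmap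
      ext y
      constructor
      · rintro ⟨z, rfl⟩
        exact ⟨Subgroup.inclusion hle z, (mem_JJ_iff _).1 z.2, rfl⟩
      · rintro ⟨z, hz, rfl⟩
        exact ⟨⟨z, (mem_JJ_iff _).2 hz⟩, rfl⟩
    exact hne (hA β₀ hβ₀ hr₀ hxJ)
  intro P φ hφ h
  by_contra hne
  have hex : ∃ Y, Moved F x Y := by
    by_contra hno
    exact hne ((fix_of_not_moved hS hF 0 (fun X _ hM => hno ⟨X, hM⟩) hφ (Nat.zero_le _)).1 h)
  have hfin : {Y | Moved F x Y}.Finite := finite_setOf_le.subset (by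
    rintro Y ⟨β, hβ, -⟩
    exact source_le hβ)
  obtain ⟨Y₀, hY₀, hmax₀⟩ := Set.exists_max_image {Y | Moved F x Y} (mu S) hfin hex
  have hY₀S : Y₀ ≤ S := by
    obtain ⟨β, hβ, -⟩ := hY₀
    exact source_le hβ
  have hlarge : ∀ X : Subgroup Ω, Nat.card (normalizerIn S Y₀) ≤ Nat.card X → ¬ Moved F x X := by
    intro X hm hM
    have hXS : X ≤ S := by
      obtain ⟨β, hβ, -⟩ := hM
      exact source_le hβ
    have hXne : X ≠ S := fun e => hnS (e ▸ hM)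
    have hlt : X < S := lt_of_le_of_ne hXS hXne
    have hN := Saturated2.lt_normalizerIn hS hlt
    have : Finite (normalizerIn S X) := finite_of_le normalizerIn_le
    have hc := Saturated2.card_lt_of_lt hN
    have h1 := mu_lt_of_card_lt (S := S) (R := X) hY₀S (lt_of_le_of_lt hm hc)
    have h2 := hmax₀ X hM
    omega
  have hfixL := @fix_of_not_moved Ω _ S F p _ _ hS hF x _ hlarge
  obtain ⟨Y, hconj, hFN⟩ := exists_fullyNormalized (F := F) hY₀S
  obtain ⟨ρ, hρ, hρv, hρm⟩ := exists_map_to_fullyNormalized hS hF hFN hconj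
  have hYS : Y ≤ S := hFN.1
  have hρfix := (hfixL hρ le_rfl).1 (hxN hY₀S)
  have hMY : Moved F x Y := Moved.of_map hρ (le_normalizerIn hY₀S) hρm (hxN hY₀S) hρfix hY₀
  have hmuY : mu S Y₀ ≤ mu S Y := by
    have h1 : Nat.card Y₀ = Nat.card Y := Basic.IsConj.card_eq hconj
    have h2 := hFN.2 Y₀ (Basic.IsConj.symm hconj)
    unfold mu
    rw [h1]
    have := Nat.mul_le_mul_right (Nat.card S + 1) h2
    omega
  have hmaxY : ∀ Q, Moved F x Q → mu S Q ≤ mu S Y := fun Q hQ => (hmax₀ Q hQ).trans hmuY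
  obtain ⟨β, hβ, hβr, hxY, hβne⟩ := id hMY
  have : Finite Y := finite_of_le hYS
  -- centric
  have hC : centralizerIn S Y ≤ Y := by
    by_contra hC
    have hrec := fullyNormalized_receptive hS hF hFN
    obtain ⟨ψ, hψ, hψe⟩ := hrec.2 _ β hβ hβr
    have hYE : Y ≤ extender S Y β := le_extender hYS (map_mem_S hβ)
    have hmap : (Y.subgroupOf (extender S Y β)).map ψ = Y := map_subgroupOf_of_agree hYE hβr (fun z hz hE => hψe z hz hE)
    have hCE : centralizerIn S Y ≤ extender S Y β := centralizerIn_le_extender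
    set R := Y ⊔ centralizerIn S Y with hR
    have hRE : R ≤ extender S Y β := sup_le hYE hCE
    have hRS : R ≤ S := sup_le hYS centralizerIn_le
    have : Finite R := finite_of_le hRS
    have hv : R ≤ ((R.comap ψ).map (extender S Y β).subtype) := by
      refine sup_le ?_ ?_
      · intro y hy
        refine ⟨⟨y, hYE hy⟩, ?_, rfl⟩
        show ψ ⟨y, hYE hy⟩ ∈ R
        rw [hψe y hy (hYE hy)]
        exact (le_sup_left : Y ≤ R) (hβr.le ⟨_, rfl⟩)
      · intro c hc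
        refine ⟨⟨c, hCE hc⟩, ?_, rfl⟩
        show ψ ⟨c, hCE hc⟩ ∈ R
        exact (le_sup_right : centralizerIn S Y ≤ R) ⟨map_mem_S hψ _, map_mem_centralizer hmap ⟨c, hCE hc⟩ hc.2⟩
    let ψR : R →* Ω := ψ.comp (Subgroup.inclusion hRE)
    have hψR : ψR ∈ F.Hom R := res_mem hψ hRE
    have hψRv : ∀ r : R, ψR r ∈ R := by
      intro r
      obtain ⟨u, hu, hue⟩ := hv r.2
      have e : Subgroup.inclusion hRE r = u := Subtype.ext hue.symm
      show ψ (Subgroup.inclusion hRE r) ∈ R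
      rw [e]
      exact hu
    have hψRr : ψR.range = R := range_eq_of_card hψR hψRv le_rfl
    have hxR : x ∈ R := (le_sup_left : Y ≤ R) hxY
    have hMR : Moved F x R := by
      refine ⟨ψR, hψR, hψRr, hxR, ?_⟩
      have e := hψe x hxY (hYE hxY)
      show ψ ⟨x, hRE hxR⟩ ≠ x
      rw [e]
      exact hβne
    have hCR : centralizerIn S Y ≤ R := le_sup_right
    have hlt : Y < R := lt_of_le_of_ne le_sup_left fun e => hC (hCR.trans e.ge)
    have hcY := Saturated2.card_lt_of_lt hlt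
    have hNN : normalizerIn S Y ≤ normalizerIn S R := by
      intro s hs
      refine ⟨hs.1, ?_⟩
      refine Cfsg.Agent.Lib.Fusion.KNormalizer.mem_normalizer_sup hs.2 ?_
      rw [Subgroup.mem_normalizer_iff]
      intro c
      have key : ∀ s ∈ normalizerIn S Y, ∀ c ∈ centralizerIn S Y, s * c * s⁻¹ ∈ centralizerIn S Y := by
        intro s hs c hc
        refine ⟨S.mul_mem (S.mul_mem hs.1 hc.1) (S.inv_mem hs.1), ?_⟩
        show s * c * s⁻¹ ∈ Subgroup.centralizer (Y : Set Ω)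
        rw [Subgroup.mem_centralizer_iff]
        intro a ha
        have h1 : s⁻¹ * a * s ∈ Y := by
          have h2 := (Subgroup.mem_normalizer_iff.1 (Subgroup.inv_mem _ hs.2) a).1 ha
          simpa using h2
        have h3 := Subgroup.mem_centralizer_iff.1 hc.2 _ h1
        calc a * (s * c * s⁻¹) = s * ((s⁻¹ * a * s) * c) * s⁻¹ := by group
          _ = s * (c * (s⁻¹ * a * s)) * s⁻¹ := by rw [h3]
          _ = s * c * s⁻¹ * a := by group
      refine ⟨key s hs c, fun hc => ?_⟩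
      have h1 := key s⁻¹ (Subgroup.inv_mem _ hs) _ hc
      simpa [mul_assoc] using h1
    have : Finite (normalizerIn S R) := finite_of_le normalizerIn_le
    have hcN := Subgroup.card_le_of_le hNN
    have hm := hmaxY R hMR
    have h1 : mu S Y < mu S R := by
      unfold mu
      have := Nat.mul_le_mul_right (Nat.card S + 1) hcN
      omega
    omega
  have hCentric : F.IsCentric Y :=
    isCentric_of_fullyCentralized hS hF (fullyNormalized_props hS hF hFN).1 hC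
  -- the model
  set T := normalizerIn S Y with hT
  have hTS : T ≤ S := normalizerIn_le
  haveI : Finite T := finite_of_le hTS
  have hTp : IsPGroup p T := hS.to_le hTS
  let E := normalizerSystem F Y hYS
  have hE : F.IsNormalizerSystem Y E := normalizerSystem_isNormalizerSystem F Y hYS
  have hEF : ∀ {R : Subgroup Ω} {ψ : R →* Ω}, ψ ∈ E.Hom R → ψ ∈ F.Hom R := fun hψ => hψ.1
  have hcon := isConstrained_normalizerSystem hS hF hFN hCentric hE
  obtain ⟨L, _, ι, hL⟩ := Cfsg.Agent.Lib.Fusion.ModelF.exists_model hTp hcon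
  obtain ⟨hfinL, hreal, ⟨TL, hTL⟩, hcent⟩ := id hL
  haveI := hfinL
  have hYT : Y ≤ T := le_normalizerIn hYS
  have hβE : β ∈ E.Hom Y := by
    refine mem_normalizerSystem hE le_rfl hYT hβ ?_
    rw [Subgroup.subgroupOf_self, ← MonoidHom.range_eq_map, hβr]
  obtain ⟨g, hg⟩ := exists_conj_of_mem hreal hβE
  have hxT : x ∈ T := hxN hYS
  have hβx : β ⟨x, hxY⟩ ∈ T := hYT (hβr.le ⟨_, rfl⟩)
  have hgx := hg ⟨x, hxY⟩ hβx hxT
  have hinjι := hreal.1
  have hgT : g * ι ⟨x, hxT⟩ * g⁻¹ ∈ (TL : Subgroup L) := by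
    rw [← hgx, hTL]
    exact ⟨_, rfl⟩
  have hgne : g * ι ⟨x, hxT⟩ * g⁻¹ ≠ ι ⟨x, hxT⟩ := by
    rw [← hgx]
    intro he
    exact hβne (congrArg Subtype.val (hinjι he))
  have hnot : ¬ ∀ g ∈ Subgroup.normalizer ((JJ 0 (TL : Subgroup L) : Subgroup L) : Set L),
      g * ι ⟨x, hxT⟩ = ι ⟨x, hxT⟩ * g := fun hall =>
    hgne (hB Y hFN hCentric E hE L ι hL hxT TL hTL hall g hgT)
  push Not at hnot
  obtain ⟨n, hn, hnne⟩ := hnot
  set Q := JJ 0 T with hQ
  have hQT : Q ≤ T := JJ_le 0 T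
  have hQS : Q ≤ S := hQT.trans hTS
  haveI : Finite Q := finite_of_le hQS
  have hmem : ∀ t : T, (t : Ω) ∈ Q ↔ ι t ∈ JJ 0 (TL : Subgroup L) := by
    intro t
    rw [hTL]
    exact (mem_JJ_range_iff ι hinjι t).symm
  have hv : ∀ r : Q, n * ι ⟨r, hQT r.2⟩ * n⁻¹ ∈ ι.range := by
    intro r
    rw [← hTL]
    exact JJ_le 0 _ ((Subgroup.mem_normalizer_iff.1 hn _).1 ((hmem _).1 r.2))
  obtain ⟨ψ, hψ, hψe⟩ := exists_hom_of_conj hreal hQT n hv
  have hψF := hEF hψ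
  have hψv : ∀ r : Q, ψ r ∈ Q := by
    intro r
    obtain ⟨hs, he⟩ := hψe r
    refine (hmem ⟨_, hs⟩).2 ?_
    rw [he]
    exact (Subgroup.mem_normalizer_iff.1 hn _).1 ((hmem _).1 r.2)
  have hψr : ψ.range = Q := range_eq_of_card hψF hψv le_rfl
  have hxQ : x ∈ Q := mem_JJ_of_mem_center hxT (fun u hu => hxc u (hTS hu))
  have hMQ : Moved F x Q := by
    refine ⟨ψ, hψF, hψr, hxQ, fun he => hnne ?_⟩
    obtain ⟨hs, he2⟩ := hψe ⟨x, hxQ⟩
    have e : (⟨ψ ⟨x, hxQ⟩, hs⟩ : T) = ⟨x, hxT⟩ := Subtype.ext he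
    rw [e] at he2
    calc n * ι ⟨x, hxT⟩ = (n * ι ⟨x, hxT⟩ * n⁻¹) * n := by group
      _ = ι ⟨x, hxT⟩ * n := by rw [← he2]
  by_cases hTeq : T = S
  · exact hJbad (by rw [hQ, hTeq]) hMQ
  · have hlt : T < S := lt_of_le_of_ne hTS hTeq
    have hN := Saturated2.lt_normalizerIn hS hlt
    have : Finite (normalizerIn S T) := finite_of_le normalizerIn_le
    have hc := Saturated2.card_lt_of_lt hN
    have hNQ : normalizerIn S T ≤ normalizerIn S Q := by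
      intro s hs
      refine ⟨hs.1, ?_⟩
      have h1 : ∀ t ∈ T, s * t * s⁻¹ ∈ T := fun t ht => (Subgroup.mem_normalizer_iff.1 hs.2 t).1 ht
      show s ∈ Subgroup.normalizer (Q : Set Ω)
      have h2 : ∀ t ∈ T, s⁻¹ * t * s ∈ T := fun t ht => by
        have := (Subgroup.mem_normalizer_iff.1 (Subgroup.inv_mem _ hs.2) t).1 ht
        simpa using this
      rw [Subgroup.mem_normalizer_iff]
      intro y
      refine ⟨fun hy => conj_mem_JJ' h1 h2 hy, fun hy => ?_⟩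
      have := conj_mem_JJ' (s := s⁻¹) (fun t ht => by simpa using h2 t ht) (fun t ht => by simpa using h1 t ht) hy
      simpa [mul_assoc] using this
    have : Finite (normalizerIn S Q) := finite_of_le normalizerIn_le
    have hcN := Subgroup.card_le_of_le hNQ
    have h1 := mu_lt_of_card_lt (S := S) (R := Q) hYS (lt_of_lt_of_le hc hcN)
    have h2 := hmaxY Q hMQ
    omega

end Cfsg.Agent.Lib.Fusion.GT.WeakChain
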