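/-
Glauberman's theorem on the centre of `N_F(J(S))`, for saturated fusion systems.
-/
import Mathlib
import Cfsg.Agent.Lib.Fusion.GT.WeakChain
import Cfsg.Agent.Lib.Fusion.Joins
import Cfsg.Agent.Lib.Fusion.Normal

set_option autoImplicit false
set_option linter.style.haveILetI false

namespace Cfsg.Agent.Lib.Fusion.GT.WeakCenter

open Cfsg Cfsg.FusionSystem Cfsg.Agent.Lib.Fusion.Basic Cfsg.Agent.Lib.Fusion.Saturated
  Cfsg.Agent.Lib.Fusion.ModelLocal Cfsg.Agent.Lib.Fusion.LocalSystems Cfsg.Agent.Lib.Fusion.Normal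
  Cfsg.Agent.Lib.Fusion.GT.Local Cfsg.Agent.Lib.Fusion.Model Cfsg.Agent.Lib.PGroup.ZJ
  Cfsg.Agent.Lib.PGroup.WeakClosure Cfsg.Agent.Lib.Fusion.GT.WeakChain Cfsg.Agent.Lib.Fusion.Joins

universe u

variable {Ω : Type u} [Group Ω] {S : Subgroup Ω} {F : FusionSystem S} {p : ℕ} [Fact p.Prime]

/-- The condition on `x` in the theorem. -/
def Good (p : ℕ) (F : FusionSystem S) (x : Ω) : Prop :=
  p ≠ 2 ∨ (∃ w ∈ centralizerIn S S, w ^ p = x) ∨ F.IsSectionFree p (Equiv.Perm (Fin 4))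

/-- An element of `Z(S)` of the good kind, fixed by `Aut_F(J(S))`, is fixed by `F`. -/
theorem fix_of_good [Finite S] (hS : IsPGroup p S) (hF : F.IsSaturated p) {x : Ω} (hxZ : x ∈ centralizerIn S S)
    (hG : Good p F x)
    (hA : ∀ β : ↥(JJ 0 S) →* Ω, β ∈ F.Hom (JJ 0 S) → β.range = JJ 0 S → ∀ h : x ∈ JJ 0 S, β ⟨x, h⟩ = x)
    {P : Subgroup Ω} {φ : P →* Ω} (hφ : φ ∈ F.Hom P) (h : x ∈ P) : φ ⟨x, h⟩ = x := by
  refine fix_of_chain hS hF hxZ hA ?_ hφ h
  intro Y hFN hC N hN L _ ι hL hx T hT hall g hg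
  obtain ⟨hfin, hreal, -, -⟩ := id hL
  haveI := hfin
  have hxT : ι ⟨x, hx⟩ ∈ (T : Subgroup L) := by
    rw [hT]
    exact ⟨_, rfl⟩
  refine Cfsg.Agent.Lib.PGroup.WeakClosureMain.wc_all _ L rfl T _ hxT hall ?_ g hg
  rcases hG with h2 | ⟨w, hw, hwp⟩ | hfree
  · exact Or.inl h2
  · refine Or.inr (Or.inl ⟨ι ⟨w, ?_⟩, ?_, ?_, ?_⟩)
    · exact ⟨hw.1, Subgroup.centralizer_le_normalizer _ (Subgroup.centralizer_le hFN.1 hw.2)⟩
    · rw [hT]
      exact ⟨_, rfl⟩
    · intro u hu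
      rw [hT] at hu
      obtain ⟨s, rfl⟩ := hu
      rw [← map_mul, ← map_mul]
      congr 1
      apply Subtype.ext
      exact (Subgroup.mem_centralizer_iff.1 hw.2 s (normalizerIn_le s.2)).symm
    · rw [← map_pow]
      congr 1
      exact Subtype.ext hwp
  · exact Or.inr (Or.inr (hfree Y hFN hC N hN L ι hL))

omit [Fact p.Prime] in
theorem normalizerIn_JJ (S : Subgroup Ω) : normalizerIn S (JJ 0 S) = S := by
  refine inf_eq_left.2 fun s hs => ?_
  have h1 : ∀ t ∈ S, s * t * s⁻¹ ∈ S := fun t ht => S.mul_mem (S.mul_mem hs ht) (S.inv_mem hs)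
  have h2 : ∀ t ∈ S, s⁻¹ * t * s ∈ S := fun t ht => S.mul_mem (S.mul_mem (S.inv_mem hs) ht) hs
  rw [Subgroup.mem_normalizer_iff]
  intro y
  refine ⟨fun hy => conj_mem_JJ' h1 h2 hy, fun hy => ?_⟩
  have := conj_mem_JJ' (s := s⁻¹) (fun t ht => by simpa using h2 t ht) (fun t ht => by simpa using h1 t ht) hy
  simpa [mul_assoc] using this

/-- The centre of `F` lies in the centre of `N_F(Q)`, `Q` normal in `S`. -/
theorem center_le_center_normalizerSystem [Finite S] {Q : Subgroup Ω} (hQS : Q ≤ S) (hSN : normalizerIn S Q = S)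
    {N : FusionSystem (normalizerIn S Q)} (hN : F.IsNormalizerSystem Q N) : F.center ≤ N.center := by
  haveI : Finite (normalizerIn S Q) := finite_of_le normalizerIn_le
  have hcen := isCentral_center F
  have hZT : F.center ≤ normalizerIn S Q := by
    rw [hSN]
    exact hcen.1
  suffices h : N.IsCentral F.center from le_sSup h
  refine ⟨hZT, fun P φ hφ => ?_⟩
  rw [hN P] at hφ
  obtain ⟨hφF, hP, hv, ψ, hψ, hag, himg⟩ := hφ
  obtain ⟨ψ₂, hψ₂, hag₂, hfix₂⟩ := hcen.2 _ ψ hψ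
  have hWT : Q ≤ (P ⊔ Q) ⊔ F.center := le_sup_left.trans' le_sup_right
  have hTN : (P ⊔ Q) ⊔ F.center ≤ normalizerIn S Q :=
    sup_le (sup_le hP (le_normalizerIn hQS)) hZT
  have himg₂ : (Q.subgroupOf ((P ⊔ Q) ⊔ F.center)).map ψ₂ = Q := by
    refine Eq.trans ?_ himg
    ext y
    rw [mem_map_subgroupOf, mem_map_subgroupOf]
    constructor
    · rintro ⟨u, hu, rfl⟩
      refine ⟨⟨u, (le_sup_right : Q ≤ P ⊔ Q) hu⟩, hu, ?_⟩
      rw [← hag₂]
      rfl
    · rintro ⟨u, hu, rfl⟩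
      refine ⟨⟨u, hWT hu⟩, hu, ?_⟩
      rw [← hag₂]
      rfl
  have hψ₂N : ψ₂ ∈ N.Hom _ := mem_normalizerSystem hN hWT hTN hψ₂ himg₂
  have hle : P ⊔ F.center ≤ (P ⊔ Q) ⊔ F.center :=
    sup_le (le_sup_left.trans le_sup_left) le_sup_right
  refine ⟨ψ₂.comp (Subgroup.inclusion hle), res_mem hψ₂N hle, fun x => ?_, fun x => ?_⟩
  · have h1 := hag₂ (Subgroup.inclusion le_sup_left x)
    have h2 := hag x
    rw [← h2, ← h1]
    rfl
  · exact hfix₂ x

/-- The centre of `N_F(J(S))` lies in the centre of `S` and its elements are fixed by `Aut_F(J(S))`. -/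
theorem center_normalizer_props [Finite S] {N : FusionSystem (normalizerIn S (JJ 0 S))}
    (hN : F.IsNormalizerSystem (JJ 0 S) N) {x : Ω} (hx : x ∈ N.center) :
    x ∈ centralizerIn S S ∧
      ∀ {P : Subgroup Ω} {φ : P →* Ω}, φ ∈ F.normalizerHom (JJ 0 S) P → ∀ h : x ∈ P, φ ⟨x, h⟩ = x := by
  have hSN := normalizerIn_JJ S
  haveI : Finite (normalizerIn S (JJ 0 S)) := finite_of_le normalizerIn_le
  have hcen := isCentral_center N
  constructor
  · have h1 := le_centralizerIn_of_singletons hcen.1 (fun x hx y hy => conjElt_eq_of_isCentral hcen hx hy)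
      (P := normalizerIn S (JJ 0 S)) le_rfl
    have e : centralizerIn (normalizerIn S (JJ 0 S)) (normalizerIn S (JJ 0 S)) = centralizerIn S S := by rw [hSN]
    exact e.le (h1 hx)
  · intro P φ hφ h
    have hφN : φ ∈ N.Hom P := by
      rw [hN P]
      exact hφ
    obtain ⟨ψ, -, hag, hfix⟩ := hcen.2 P φ hφN
    have e1 := hag ⟨x, h⟩
    have e2 := hfix ⟨x, hx⟩
    rw [← e1]
    exact e2

/-- Elements of the centre of `N_F(J(S))` of the good kind are fixed by `F`. -/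
theorem fix_of_center_normalizer [Finite S] (hS : IsPGroup p S) (hF : F.IsSaturated p)
    {N : FusionSystem (normalizerIn S (JJ 0 S))} (hN : F.IsNormalizerSystem (JJ 0 S) N) {x : Ω} (hx : x ∈ N.center)
    (hG : Good p F x) {P : Subgroup Ω} {φ : P →* Ω} (hφ : φ ∈ F.Hom P) (h : x ∈ P) : φ ⟨x, h⟩ = x := by
  obtain ⟨hxZ, hfix⟩ := center_normalizer_props hN hx
  refine fix_of_good hS hF hxZ hG (fun β hβ hr hJ => ?_) hφ h
  have hE := normalizerSystem_isNormalizerSystem F (JJ 0 S) (JJ_le 0 S)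
  have hβN := mem_normalizerSystem hE le_rfl (le_normalizerIn (JJ_le 0 S)) hβ (by
    rw [Subgroup.subgroupOf_self, ← MonoidHom.range_eq_map, hr])
  rw [hE] at hβN
  exact hfix hβN hJ

/-- Subgroups of the centre of `N_F(J(S))` of good elements are central in `F`. -/
theorem isCentral_of_le_center [Finite S] (hS : IsPGroup p S) (hF : F.IsSaturated p)
    {N : FusionSystem (normalizerIn S (JJ 0 S))} (hN : F.IsNormalizerSystem (JJ 0 S) N) {Y : Subgroup Ω}
    (hY : Y ≤ N.center) (hG : ∀ y ∈ Y, Good p F y) : F.IsCentral Y := by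
  have hYS : Y ≤ S := fun y hy => (center_normalizer_props hN (hY hy)).1.1
  refine isCentral_of_singletons hF hYS fun x hx y hy => ?_
  obtain ⟨φ, hφ, rfl⟩ := hy
  exact fix_of_center_normalizer hS hF hN (hY hx) (hG x hx) hφ _

/-- A product of `p`-th powers in an abelian group is a `p`-th power. -/
theorem exists_pow_of_mem_closure {S : Subgroup Ω} {x : Ω}
    (hx : x ∈ Subgroup.closure ((fun z : Ω => z ^ p) '' ((S ⊓ Subgroup.centralizer (S : Set Ω) : Subgroup Ω) : Set Ω))) :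
    ∃ w ∈ centralizerIn S S, w ^ p = x := by
  induction hx using Subgroup.closure_induction with
  | mem x hx =>
    obtain ⟨w, hw, rfl⟩ := hx
    exact ⟨w, hw, rfl⟩
  | one => exact ⟨1, one_mem _, one_pow p⟩
  | mul x y _ _ hx hy =>
    obtain ⟨w₁, hw₁, rfl⟩ := hx
    obtain ⟨w₂, hw₂, rfl⟩ := hy
    refine ⟨w₁ * w₂, mul_mem hw₁ hw₂, ?_⟩
    have hc : Commute w₁ w₂ := (Subgroup.mem_centralizer_iff.1 hw₂.2 w₁ hw₁.1)
    exact hc.mul_pow p
  | inv x _ hx =>
    obtain ⟨w, hw, rfl⟩ := hx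
    exact ⟨w⁻¹, inv_mem hw, inv_pow w p⟩

/-- **Glauberman's theorem**, for fusion systems. -/
theorem main [Finite S] (hS : IsPGroup p S) (hF : F.IsSaturated p) {J : Subgroup Ω} (hJ : J = JJ 0 S)
    (N : FusionSystem (normalizerIn S J)) (hN : F.IsNormalizerSystem J N) :
    Subgroup.closure ((fun z : Ω => z ^ p) '' ((S ⊓ Subgroup.centralizer (S : Set Ω) : Subgroup Ω) : Set Ω)) ⊓ N.center ≤ F.center ∧
      (p ≠ 2 ∨ F.IsSectionFree p (Equiv.Perm (Fin 4)) → N.center = F.center) := by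
  subst hJ
  constructor
  · refine le_sSup (isCentral_of_le_center hS hF hN inf_le_right fun y hy => ?_)
    exact Or.inr (Or.inl (exists_pow_of_mem_closure hy.1))
  · intro h
    refine le_antisymm (le_sSup (isCentral_of_le_center hS hF hN le_rfl fun y _ => ?_))
      (center_le_center_normalizerSystem (JJ_le 0 S) (normalizerIn_JJ S) hN)
    rcases h with h | h
    · exact Or.inl h
    · exact Or.inr (Or.inr h)

end Cfsg.Agent.Lib.Fusion.GT.WeakCenter
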